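import Mathlib
set_option linter.all false

-- part: H976/FC/Core
section
/-!
# S5764, C4 (tensor decompositions): the main computation (helper976)

`claim`: let `f` be a ring automorphism of `M_I(K) ⊗ M_Y(K)` preserving both factors (`f1`, `f2`), `Z = B ⊗ h` with `B` not
scalar, `h² = 0`, `h ≠ 0`.  If `x f x⁻¹` (`x = 1 + Z`) preserves the first factor then `f2 h = c h` and `B = c f1(B) + s`.
-/

set_option autoImplicit false

open Matrix
open scoped Kronecker

namespace Cfsg.Agent.H976.FC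

section core

variable {K : Type*} [Field K] {I Y : Type*} [Fintype I] [DecidableEq I] [Fintype Y] [DecidableEq Y]

/-- a matrix commuting with all matrices is scalar -/
theorem scalar_of_comm (C : Matrix I I K) (h : ∀ X : Matrix I I K, C * X = X * C) : ∃ s : K, C = s • (1 : Matrix I I K) := by
  obtain ⟨s, hs⟩ := Matrix.mem_range_scalar_iff_commute_single'.2 (fun i j => (h (single i j 1)).symm)
  refine ⟨s, ?_⟩
  rw [← hs, Matrix.scalar_apply, Matrix.smul_one_eq_diagonal]

omit [Fintype I] [DecidableEq I] [Fintype Y] [DecidableEq Y] in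
theorem kron_dep {D E : Matrix I I K} {h k : Matrix Y Y K} (heq : D ⊗ₖ h = E ⊗ₖ k) (hE : E ≠ 0) : ∃ c : K, k = c • h := by
  obtain ⟨i, j, hij⟩ : ∃ i j, E i j ≠ 0 := by
    by_contra hcon
    push Not at hcon
    exact hE (by ext i j; exact hcon i j)
  refine ⟨D i j / E i j, ?_⟩
  ext a b
  have h1 := congrFun (congrFun heq (i, a)) (j, b)
  simp only [Matrix.kronecker_apply] at h1
  rw [Matrix.smul_apply, smul_eq_mul, div_mul_eq_mul_div, h1]
  field_simp

omit [Fintype I] [DecidableEq I] [Fintype Y] [DecidableEq Y] in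
theorem kron_left {D E : Matrix I I K} {h : Matrix Y Y K} (hh : h ≠ 0) (heq : D ⊗ₖ h = E ⊗ₖ h) : D = E := by
  obtain ⟨a, b, hab⟩ : ∃ i j, h i j ≠ 0 := by
    by_contra hcon
    push Not at hcon
    exact hh (by ext i j; exact hcon i j)
  ext i j
  have h1 := congrFun (congrFun heq (i, a)) (j, b)
  simp only [Matrix.kronecker_apply] at h1
  exact mul_right_cancel₀ hab h1

omit [Fintype I] [DecidableEq I] [Fintype Y] [DecidableEq Y] in
theorem kron_right {B : Matrix I I K} {h k : Matrix Y Y K} (hB : B ≠ 0) (heq : B ⊗ₖ h = B ⊗ₖ k) : h = k := by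
  obtain ⟨a, b, hab⟩ : ∃ i j, B i j ≠ 0 := by
    by_contra hcon
    push Not at hcon
    exact hB (by ext i j; exact hcon i j)
  ext i j
  have h1 := congrFun (congrFun heq (a, i)) (b, j)
  simp only [Matrix.kronecker_apply] at h1
  exact mul_left_cancel₀ hab h1

/-- the centralizer of the first factor is the second factor -/
theorem mem_second [Nonempty I] (X : Matrix (I × Y) (I × Y) K)
    (h : ∀ B : Matrix I I K, X * (B ⊗ₖ (1 : Matrix Y Y K)) = (B ⊗ₖ (1 : Matrix Y Y K)) * X) :
    ∃ C : Matrix Y Y K, X = (1 : Matrix I I K) ⊗ₖ C := by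
  obtain ⟨i0⟩ := ‹Nonempty I›
  refine ⟨Matrix.of fun k l => X (i0, k) (i0, l), ?_⟩
  ext ⟨a, k⟩ ⟨i, l⟩
  have h1 := congrFun (congrFun (h (single i i0 1)) (a, k)) (i0, l)
  simp only [Matrix.mul_apply, Fintype.sum_prod_type, Matrix.kronecker_apply, Matrix.single_apply, Matrix.one_apply] at h1
  rw [Matrix.kronecker_apply, Matrix.one_apply, Matrix.of_apply]
  rw [Finset.sum_eq_single i, Finset.sum_eq_single l, Finset.sum_eq_single i0, Finset.sum_eq_single k] at h1
  · simp only [if_true, and_self, mul_one] at h1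
    rw [h1]
    by_cases hia : i = a
    · subst hia; simp
    · rw [if_neg (fun h2 => hia h2.1), if_neg (fun h2 => hia h2.symm)]
  · intro c _ hc; rw [if_neg (fun h2 : k = c => hc h2.symm)]; ring
  · intro h2; exact absurd (Finset.mem_univ _) h2
  · intro c _ hc
    apply Finset.sum_eq_zero
    intro d _
    rw [if_neg (fun h2 : i = a ∧ i0 = c => hc h2.2.symm)]; ring
  · intro h2; exact absurd (Finset.mem_univ _) h2
  · intro c _ hc; rw [if_neg (fun h2 : c = l => hc h2)]; ring
  · intro h2; exact absurd (Finset.mem_univ _) h2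
  · intro c _ hc
    apply Finset.sum_eq_zero
    intro d _
    simp [hc.symm]
  · intro h2; exact absurd (Finset.mem_univ _) h2

/-- **The claim.** -/
theorem claim (f : Matrix (I × Y) (I × Y) K ≃+* Matrix (I × Y) (I × Y) K)
    (f1 : Matrix I I K → Matrix I I K) (f2 : Matrix Y Y K → Matrix Y Y K)
    (hf1 : ∀ B, f (B ⊗ₖ 1) = f1 B ⊗ₖ 1) (hf2 : ∀ C, f (1 ⊗ₖ C) = 1 ⊗ₖ f2 C) (hf1s : Function.Surjective f1)
    (B : Matrix I I K) (h : Matrix Y Y K) (hB : ∀ s : K, B ≠ s • (1 : Matrix I I K)) (hh : h * h = 0) (hh0 : h ≠ 0)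
    (hx : ∀ X : Matrix I I K, ∃ X' : Matrix I I K,
      (1 + B ⊗ₖ h) * f ((1 - B ⊗ₖ h) * (X ⊗ₖ 1) * (1 + B ⊗ₖ h)) * (1 - B ⊗ₖ h) = X' ⊗ₖ 1) :
    ∃ c s : K, c ≠ 0 ∧ f2 h = c • h ∧ B = c • f1 B + s • (1 : Matrix I I K) := by
  -- `Y` and `I` are non-empty
  have hB0 : B ≠ 0 := by rw [← zero_smul K (1 : Matrix I I K)]; exact hB 0
  have hI0 : (1 : Matrix I I K) ≠ 0 := by
    intro h1
    apply hB0
    rw [← Matrix.mul_one B, h1, Matrix.mul_zero]
  have hY0 : (1 : Matrix Y Y K) ≠ 0 := by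
    intro h1
    apply hh0
    rw [← Matrix.mul_one h, h1, Matrix.mul_zero]
  -- `f2` and `f1` on the relevant elements
  set h' := f2 h with hh'
  set B' := f1 B with hB'
  have hfZ : f (B ⊗ₖ h) = B' ⊗ₖ h' := by
    have h1 : B ⊗ₖ h = (B ⊗ₖ (1 : Matrix Y Y K)) * ((1 : Matrix I I K) ⊗ₖ h) := by
      rw [← mul_kronecker_mul, Matrix.mul_one, Matrix.one_mul]
    rw [h1, map_mul, hf1, hf2, ← mul_kronecker_mul, Matrix.mul_one, Matrix.one_mul]
  have hh'2 : h' * h' = 0 := by
    have h1 : (1 : Matrix I I K) ⊗ₖ (h' * h') = (1 : Matrix I I K) ⊗ₖ (0 : Matrix Y Y K) := by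
      have h2 : ((1 : Matrix I I K) ⊗ₖ h') * ((1 : Matrix I I K) ⊗ₖ h') = 0 := by
        rw [hh', ← hf2, ← map_mul, ← mul_kronecker_mul, hh, kronecker_zero, map_zero]
      rw [← mul_kronecker_mul, Matrix.one_mul] at h2
      rw [h2, kronecker_zero]
    exact kron_right hI0 h1
  have hh'0 : h' ≠ 0 := by
    intro h1
    apply hh0
    have h2 : f ((1 : Matrix I I K) ⊗ₖ h) = 0 := by rw [hf2, ← hh', h1, kronecker_zero]
    rw [map_eq_zero_iff f f.injective] at h2
    exact kron_right hI0 (by rw [h2, kronecker_zero])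
  have hB's : ∀ s : K, B' ≠ s • (1 : Matrix I I K) := by
    intro s hs
    obtain ⟨t, ht⟩ := scalar_of_comm B (fun X => by
      have h1 : f ((B * X) ⊗ₖ (1 : Matrix Y Y K)) = f ((X * B) ⊗ₖ (1 : Matrix Y Y K)) := by
        have h2 : ∀ P Q : Matrix I I K, (P * Q) ⊗ₖ (1 : Matrix Y Y K) = (P ⊗ₖ (1 : Matrix Y Y K)) * (Q ⊗ₖ (1 : Matrix Y Y K)) := by
          intro P Q; rw [← mul_kronecker_mul, Matrix.one_mul]
        rw [h2, h2, map_mul, map_mul, hf1 B, ← hB', hs, hf1 X, smul_kronecker, one_kronecker_one]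
        simp
      exact kron_left hY0 (f.injective h1))
    exact hB t ht
  -- the element `m`
  set Z := B ⊗ₖ h with hZ
  set Z' := B' ⊗ₖ h' with hZ'
  have hZ2 : Z * Z = 0 := by rw [hZ, ← mul_kronecker_mul, hh, kronecker_zero]
  have hZ'2 : Z' * Z' = 0 := by rw [hZ', ← mul_kronecker_mul, hh'2, kronecker_zero]
  have hm1 : (1 + Z') * (1 - Z) * ((1 + Z) * (1 - Z')) = 1 := by
    have h1 : (1 - Z) * (1 + Z) = 1 := by
      have : (1 - Z) * (1 + Z) = 1 - Z * Z := by noncomm_ring
      rw [this, hZ2, sub_zero]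
    have h2 : (1 + Z') * (1 - Z') = 1 := by
      have : (1 + Z') * (1 - Z') = 1 - Z' * Z' := by noncomm_ring
      rw [this, hZ'2, sub_zero]
    calc (1 + Z') * (1 - Z) * ((1 + Z) * (1 - Z')) = (1 + Z') * ((1 - Z) * (1 + Z)) * (1 - Z') := by noncomm_ring
      _ = 1 := by rw [h1, mul_one, h2]
  set m := (1 + Z) * (1 - Z') with hm
  have hmX : ∀ W : Matrix I I K, ∃ W' : Matrix I I K, m * (W ⊗ₖ (1 : Matrix Y Y K)) = (W' ⊗ₖ (1 : Matrix Y Y K)) * m := by
    intro W
    obtain ⟨X, rfl⟩ := hf1s W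
    obtain ⟨X', hX'⟩ := hx X
    refine ⟨X', ?_⟩
    rw [← hX', map_mul, map_mul, map_add, map_sub, map_one, hfZ, ← hf1 X]
    calc m * f (X ⊗ₖ 1) = m * f (X ⊗ₖ 1) * ((1 + Z') * (1 - Z) * m) := by rw [hm1, mul_one]
      _ = _ := by rw [hm]; noncomm_ring
  -- first step: `h h' = 0`
  have hhm : ((1 : Matrix I I K) ⊗ₖ h) * m = (1 : Matrix I I K) ⊗ₖ h - B' ⊗ₖ (h * h') := by
    have h1 : ((1 : Matrix I I K) ⊗ₖ h) * Z = 0 := by
      rw [hZ, ← mul_kronecker_mul, hh, kronecker_zero]
    have h2 : ((1 : Matrix I I K) ⊗ₖ h) * Z' = B' ⊗ₖ (h * h') := by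
      rw [hZ', ← mul_kronecker_mul, Matrix.one_mul]
    rw [hm, ← mul_assoc, mul_add, mul_one, h1, add_zero, mul_sub, mul_one, h2]
  have hstep : ∀ W : Matrix I I K, ∃ W' : Matrix I I K, m * (W ⊗ₖ (1 : Matrix Y Y K)) = (W' ⊗ₖ (1 : Matrix Y Y K)) * m ∧
      (W - W') ⊗ₖ h = (B' * W - W' * B') ⊗ₖ (h * h') := by
    intro W
    obtain ⟨W', hW'⟩ := hmX W
    refine ⟨W', hW', ?_⟩
    have h0 : ((1 : Matrix I I K) ⊗ₖ h) * (W' ⊗ₖ (1 : Matrix Y Y K)) =
        (W' ⊗ₖ (1 : Matrix Y Y K)) * ((1 : Matrix I I K) ⊗ₖ h) := by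
      rw [← mul_kronecker_mul, ← mul_kronecker_mul, Matrix.one_mul, Matrix.mul_one, Matrix.one_mul, Matrix.mul_one]
    have h1 : ((1 : Matrix I I K) ⊗ₖ h) * m * (W ⊗ₖ (1 : Matrix Y Y K)) =
        (W' ⊗ₖ (1 : Matrix Y Y K)) * (((1 : Matrix I I K) ⊗ₖ h) * m) := by
      rw [mul_assoc, hW', ← mul_assoc, h0, mul_assoc]
    rw [hhm, sub_mul, mul_sub, ← mul_kronecker_mul, ← mul_kronecker_mul, ← mul_kronecker_mul, ← mul_kronecker_mul,
      Matrix.one_mul, Matrix.mul_one, Matrix.mul_one, Matrix.mul_one, Matrix.one_mul, Matrix.one_mul] at h1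
    have e1 : (W - W') ⊗ₖ h = W ⊗ₖ h - W' ⊗ₖ h := by
      ext ⟨i, k⟩ ⟨j, l⟩
      simp only [Matrix.kronecker_apply, Matrix.sub_apply]; ring
    have e2 : (B' * W - W' * B') ⊗ₖ (h * h') = (B' * W) ⊗ₖ (h * h') - (W' * B') ⊗ₖ (h * h') := by
      ext ⟨i, k⟩ ⟨j, l⟩
      simp only [Matrix.kronecker_apply, Matrix.sub_apply]; ring
    rw [e1, e2]
    rw [sub_eq_sub_iff_add_eq_add] at h1 ⊢
    rw [h1]; abel
  have hhh' : h * h' = 0 := by
    by_cases hall : ∀ W W' : Matrix I I K, (W - W') ⊗ₖ h = (B' * W - W' * B') ⊗ₖ (h * h') → B' * W - W' * B' = 0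
    · exfalso
      obtain ⟨s, hs⟩ := scalar_of_comm B' (fun W => by
        obtain ⟨W', _, hW'⟩ := hstep W
        have h1 := hall W W' hW'
        rw [h1] at hW'
        have h2 : W - W' = 0 := kron_left hh0 (by rw [hW', zero_kronecker, zero_kronecker])
        rw [sub_eq_zero] at h1 h2
        rw [h1, h2])
      exact hB's s hs
    · push Not at hall
      obtain ⟨W, W', h1, h2⟩ := hall
      obtain ⟨c, hc⟩ := kron_dep h1 h2
      have h3 : c • (h * h') = 0 := by
        have h4 : (c • h) * h' = (h * h') * h' := by rw [hc]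
        rw [smul_mul_assoc, mul_assoc, hh'2, mul_zero] at h4
        exact h4
      rcases smul_eq_zero.1 h3 with h4 | h4
      · rw [hc, h4, zero_smul]
      · exact h4
  -- `m` commutes with the first factor
  have hcomm : ∀ W : Matrix I I K, m * (W ⊗ₖ (1 : Matrix Y Y K)) = (W ⊗ₖ (1 : Matrix Y Y K)) * m := by
    intro W
    obtain ⟨W', hW', h1⟩ := hstep W
    rw [hhh', kronecker_zero] at h1
    have h2 : W - W' = 0 := kron_left hh0 (by rw [h1, zero_kronecker])
    rw [sub_eq_zero] at h2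
    rw [hW', ← h2]
  have hm' : m = 1 + Z - Z' := by
    have h1 : Z * Z' = 0 := by rw [hZ, hZ', ← mul_kronecker_mul, hhh', kronecker_zero]
    rw [hm, mul_sub, mul_one, add_mul, one_mul, h1, add_zero]
  have hfin : ∀ W : Matrix I I K, (B * W - W * B) ⊗ₖ h = (B' * W - W * B') ⊗ₖ h' := by
    intro W
    have h1 := hcomm W
    rw [hm', sub_mul, add_mul, one_mul, mul_sub, mul_add, mul_one, hZ, hZ', ← mul_kronecker_mul, ← mul_kronecker_mul,
      ← mul_kronecker_mul, ← mul_kronecker_mul, Matrix.mul_one, Matrix.mul_one, Matrix.one_mul, Matrix.one_mul] at h1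
    have e1 : (B * W - W * B) ⊗ₖ h = (B * W) ⊗ₖ h - (W * B) ⊗ₖ h := by
      ext ⟨i, k⟩ ⟨j, l⟩
      simp only [Matrix.kronecker_apply, Matrix.sub_apply]; ring
    have e2 : (B' * W - W * B') ⊗ₖ h' = (B' * W) ⊗ₖ h' - (W * B') ⊗ₖ h' := by
      ext ⟨i, k⟩ ⟨j, l⟩
      simp only [Matrix.kronecker_apply, Matrix.sub_apply]; ring
    rw [e1, e2, sub_eq_sub_iff_add_eq_add]
    rw [sub_eq_sub_iff_add_eq_add] at h1
    have h2 : W ⊗ₖ (1 : Matrix Y Y K) + ((B * W) ⊗ₖ h + (W * B') ⊗ₖ h') =
        W ⊗ₖ (1 : Matrix Y Y K) + ((B' * W) ⊗ₖ h' + (W * B) ⊗ₖ h) := by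
      rw [← add_assoc, h1]; abel
    exact add_left_cancel h2
  obtain ⟨W0, hW0⟩ : ∃ W : Matrix I I K, B' * W - W * B' ≠ 0 := by
    by_contra hcon
    push Not at hcon
    obtain ⟨s, hs⟩ := scalar_of_comm B' (fun W => sub_eq_zero.1 (hcon W))
    exact hB's s hs
  obtain ⟨c, hc⟩ := kron_dep (hfin W0) hW0
  have hc0 : c ≠ 0 := by
    rintro rfl
    exact hh'0 (by rw [hc, zero_smul])
  obtain ⟨s, hs⟩ := scalar_of_comm (B - c • B') (fun W => by
    have h1 := hfin W
    rw [hc, kronecker_smul, ← smul_kronecker] at h1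
    have h2 := kron_left hh0 h1
    rw [sub_mul, mul_sub, sub_eq_sub_iff_sub_eq_sub, h2, smul_mul_assoc, mul_smul_comm, smul_sub])
  exact ⟨c, s, hc0, hc, by rw [← hs]; abel⟩

end core

end Cfsg.Agent.H976.FC
end

-- part: H976/FC/Gen
section
/-!
# S5764, C4: generation lemmas (helper976)
-/

set_option autoImplicit false

open Matrix
open scoped Kronecker

namespace Cfsg.Agent.H976.FC

section gen

variable {K : Type*} [Field K]

/-- `E₀₀` (with coefficients in `A`) and a tridiagonal matrix generate everything (with coefficients in `A`) -/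
theorem path_gen {n : ℕ} (A : Subring K) (S : Subring (Matrix (Fin (n + 1)) (Fin (n + 1)) K))
    (T : Matrix (Fin (n + 1)) (Fin (n + 1)) K) (hT0 : ∀ i j : Fin (n + 1), T i j ≠ 0 → i.val + 1 = j.val ∨ j.val + 1 = i.val)
    (hT1 : ∀ i j : Fin (n + 1), (i.val + 1 = j.val ∨ j.val + 1 = i.val) → T i j ≠ 0 ∧ T i j ∈ A ∧ (T i j)⁻¹ ∈ A)
    (hA : ∀ a ∈ A, single 0 0 a ∈ S) (hTS : T ∈ S) : ∀ i j, ∀ a ∈ A, single i j a ∈ S := by
  -- first column
  have hcol : ∀ k : ℕ, ∀ i : Fin (n + 1), i.val ≤ k → ∀ a ∈ A, single i 0 a ∈ S := by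
    intro k
    induction k with
    | zero =>
      intro i hi a ha
      have : i = 0 := Fin.ext (by simpa using hi)
      rw [this]; exact hA a ha
    | succ k ih =>
      intro i hi a ha
      rcases Nat.lt_or_ge i.val (k + 1) with h1 | h1
      · exact ih i (by omega) a ha
      have hik : i.val = k + 1 := by omega
      have hkn : k < n + 1 := by have := i.2; omega
      set j : Fin (n + 1) := ⟨k, hkn⟩ with hj
      obtain ⟨h2, h3, h4⟩ := hT1 i j (Or.inr (by rw [hj, hik]))
      -- `T * single j 0 c`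
      have hprod : ∀ c : K, T * single j (0 : Fin (n + 1)) c = ∑ l, single l (0 : Fin (n + 1)) (T l j * c) := by
        intro c
        ext x y
        rw [Matrix.sum_apply, Matrix.mul_apply]
        simp only [Matrix.single_apply]
        rw [Finset.sum_eq_single j, Finset.sum_eq_single x]
        · by_cases hy : 0 = y <;> simp [hy]
        · intro l _ hl; rw [if_neg (fun h => hl h.1)]
        · intro h; exact absurd (Finset.mem_univ _) h
        · intro l _ hl; rw [if_neg (fun h => hl h.1.symm), mul_zero]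
        · intro h; exact absurd (Finset.mem_univ _) h
      have h5 : (∑ l, single l 0 (T l j * ((T i j)⁻¹ * a))) ∈ S := by
        have h5' := S.mul_mem hTS (ih j (by rw [hj]) ((T i j)⁻¹ * a) (A.mul_mem h4 ha))
        convert h5' using 1
        exact (hprod _).symm
      rw [← Finset.add_sum_erase _ _ (Finset.mem_univ i)] at h5
      have h6 : ∑ l ∈ Finset.univ.erase i, single l 0 (T l j * ((T i j)⁻¹ * a)) ∈ S := by
        apply S.sum_mem
        intro l hl
        have hli := Finset.ne_of_mem_erase hl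
        by_cases h7 : T l j = 0
        · rw [h7, zero_mul, Matrix.single_zero]; exact S.zero_mem
        · have h8 : l.val ≤ k := by
            rcases hT0 l j h7 with h9 | h9
            · rw [hj] at h9; simp at h9; omega
            · exfalso; apply hli; apply Fin.ext; rw [hj] at h9; simp at h9; omega
          apply ih l h8
          exact A.mul_mem (hT1 l j (hT0 l j h7)).2.1 (A.mul_mem h4 ha)
      have h7 := S.sub_mem h5 h6
      rw [add_sub_cancel_right, ← mul_assoc, mul_inv_cancel₀ h2, one_mul] at h7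
      exact h7
  have hrow : ∀ k : ℕ, ∀ i : Fin (n + 1), i.val ≤ k → ∀ a ∈ A, single 0 i a ∈ S := by
    intro k
    induction k with
    | zero =>
      intro i hi a ha
      have : i = 0 := Fin.ext (by simpa using hi)
      rw [this]; exact hA a ha
    | succ k ih =>
      intro i hi a ha
      rcases Nat.lt_or_ge i.val (k + 1) with h1 | h1
      · exact ih i (by omega) a ha
      have hik : i.val = k + 1 := by omega
      have hkn : k < n + 1 := by have := i.2; omega
      set j : Fin (n + 1) := ⟨k, hkn⟩ with hj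
      obtain ⟨h2, h3, h4⟩ := hT1 j i (Or.inl (by rw [hj, hik]))
      have hprod : ∀ c : K, single (0 : Fin (n + 1)) j c * T = ∑ l, single (0 : Fin (n + 1)) l (c * T j l) := by
        intro c
        ext x y
        rw [Matrix.sum_apply, Matrix.mul_apply]
        simp only [Matrix.single_apply]
        rw [Finset.sum_eq_single j, Finset.sum_eq_single y]
        · by_cases hy : 0 = x <;> simp [hy]
        · intro l _ hl; rw [if_neg (fun h => hl h.2)]
        · intro h; exact absurd (Finset.mem_univ _) h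
        · intro l _ hl; rw [if_neg (fun h => hl h.2.symm), zero_mul]
        · intro h; exact absurd (Finset.mem_univ _) h
      have h5 : (∑ l, single 0 l (a * (T j i)⁻¹ * T j l)) ∈ S := by
        have h5' := S.mul_mem (ih j (by rw [hj]) (a * (T j i)⁻¹) (A.mul_mem ha h4)) hTS
        convert h5' using 1
        exact (hprod _).symm
      rw [← Finset.add_sum_erase _ _ (Finset.mem_univ i)] at h5
      have h6 : ∑ l ∈ Finset.univ.erase i, single 0 l (a * (T j i)⁻¹ * T j l) ∈ S := by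
        apply S.sum_mem
        intro l hl
        have hli := Finset.ne_of_mem_erase hl
        by_cases h7 : T j l = 0
        · rw [h7, mul_zero, Matrix.single_zero]; exact S.zero_mem
        · have h8 : l.val ≤ k := by
            rcases hT0 j l h7 with h9 | h9
            · exfalso; apply hli; apply Fin.ext; rw [hj] at h9; simp at h9; omega
            · rw [hj] at h9; simp at h9; omega
          apply ih l h8
          exact A.mul_mem (A.mul_mem ha h4) (hT1 j l (hT0 j l h7)).2.1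
      have h7 := S.sub_mem h5 h6
      rw [add_sub_cancel_right, mul_assoc, inv_mul_cancel₀ h2, mul_one] at h7
      exact h7
  intro i j a ha
  have h1 := S.mul_mem (hcol i.val i le_rfl a ha) (hrow j.val j le_rfl 1 A.one_mem)
  rw [Matrix.single_mul_single_same, mul_one] at h1
  exact h1

/-- the path matrix -/
def pth (K : Type*) [Field K] (n : ℕ) : Matrix (Fin (n + 1)) (Fin (n + 1)) K :=
  Matrix.of fun i j => if i.val + 1 = j.val ∨ j.val + 1 = i.val then 1 else 0

/-- the four elements `hᵢ` -/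
def hh {n : ℕ} (γ : K) : Fin 4 → Matrix (Fin 2 × Fin (n + 1)) (Fin 2 × Fin (n + 1)) K :=
  ![single 0 1 1 ⊗ₖ 1, single 1 0 1 ⊗ₖ 1, !![1, -1; 1, -1] ⊗ₖ single 0 0 1, single 0 1 1 ⊗ₖ (pth K n + single 0 0 γ)]

theorem pth_transpose (n : ℕ) : (pth K n)ᵀ = pth K n := by
  ext i j
  simp only [Matrix.transpose_apply, pth, Matrix.of_apply]
  congr 1
  exact propext (or_comm)

theorem pth_zero (n : ℕ) : pth K n 0 0 = 0 := by
  simp [pth]

theorem hh_sq {n : ℕ} (γ : K) (i : Fin 4) : hh (n := n) γ i * hh γ i = 0 := by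
  have h01 : (single (0 : Fin 2) (1 : Fin 2) (1 : K)) * single 0 1 1 = 0 :=
    Matrix.single_mul_single_of_ne _ _ _ _ (by decide) _
  have h10 : (single (1 : Fin 2) (0 : Fin 2) (1 : K)) * single 1 0 1 = 0 :=
    Matrix.single_mul_single_of_ne _ _ _ _ (by decide) _
  have ha : (!![1, -1; 1, -1] : Matrix (Fin 2) (Fin 2) K) * !![1, -1; 1, -1] = 0 := by
    ext i j; fin_cases i <;> fin_cases j <;> simp [Matrix.mul_apply, Fin.sum_univ_two]
  fin_cases i
  · show (single 0 1 1 ⊗ₖ 1) * (single 0 1 1 ⊗ₖ 1) = 0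
    rw [← mul_kronecker_mul, h01, zero_kronecker]
  · show (single 1 0 1 ⊗ₖ 1) * (single 1 0 1 ⊗ₖ 1) = 0
    rw [← mul_kronecker_mul, h10, zero_kronecker]
  · show (!![1, -1; 1, -1] ⊗ₖ single 0 0 1) * (!![1, -1; 1, -1] ⊗ₖ single 0 0 1) = 0
    rw [← mul_kronecker_mul, ha, zero_kronecker]
  · show (single 0 1 1 ⊗ₖ (pth K n + single 0 0 γ)) * (single 0 1 1 ⊗ₖ (pth K n + single 0 0 γ)) = 0
    rw [← mul_kronecker_mul, h01, zero_kronecker]

/-- `h₁ h₂ = E₀₀ ⊗ 1` -/
theorem hh01 {n : ℕ} (γ : K) : hh (n := n) γ 0 * hh γ 1 = single 0 0 1 ⊗ₖ 1 := by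
  show (single 0 1 1 ⊗ₖ 1) * (single 1 0 1 ⊗ₖ 1) = _
  rw [← mul_kronecker_mul, Matrix.single_mul_single_same, Matrix.one_mul, mul_one]

theorem hh_q {n : ℕ} (γ : K) : hh (n := n) γ 0 * hh γ 1 * hh γ 2 * (hh γ 0 * hh γ 1) = single 0 0 1 ⊗ₖ single 0 0 1 := by
  rw [hh01]
  show (single 0 0 1 ⊗ₖ 1) * (!![1, -1; 1, -1] ⊗ₖ single 0 0 1) * (single 0 0 1 ⊗ₖ 1) = _
  rw [← mul_kronecker_mul, ← mul_kronecker_mul, Matrix.one_mul, Matrix.mul_one]
  congr 1
  ext i j; fin_cases i <;> fin_cases j <;> simp [Matrix.mul_apply, Matrix.single_apply]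

theorem hh_q' {n : ℕ} (γ : K) : hh (n := n) γ 0 * hh γ 1 * hh γ 2 * hh γ 1 = -(single 0 0 1 ⊗ₖ single 0 0 1) := by
  rw [hh01]
  show (single 0 0 1 ⊗ₖ 1) * (!![1, -1; 1, -1] ⊗ₖ single 0 0 1) * (single 1 0 1 ⊗ₖ 1) = _
  rw [← mul_kronecker_mul, ← mul_kronecker_mul, Matrix.one_mul, Matrix.mul_one]
  have : (single 0 0 1 * !![1, -1; 1, -1] * single 1 0 1 : Matrix (Fin 2) (Fin 2) K) = -single 0 0 1 := by
    ext i j; fin_cases i <;> fin_cases j <;> simp [Matrix.mul_apply, Matrix.single_apply]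
  rw [this]
  ext ⟨i, k⟩ ⟨j, l⟩
  simp only [Matrix.kronecker_apply, Matrix.neg_apply, neg_mul]

theorem hh31 {n : ℕ} (γ : K) : hh (n := n) γ 3 * hh γ 1 = single 0 0 1 ⊗ₖ (pth K n + single 0 0 γ) := by
  show (single 0 1 1 ⊗ₖ (pth K n + single 0 0 γ)) * (single 1 0 1 ⊗ₖ 1) = _
  rw [← mul_kronecker_mul, Matrix.single_mul_single_same, Matrix.mul_one, mul_one]

theorem single_mul_mul_single {n : ℕ} (X : Matrix (Fin (n + 1)) (Fin (n + 1)) K) :
    single 0 0 1 * X * single 0 0 1 = single 0 0 (X 0 0) := by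
  ext i j
  rw [Matrix.mul_apply, Finset.sum_eq_single 0, Matrix.mul_apply, Finset.sum_eq_single 0]
  · simp only [Matrix.single_apply]
    by_cases hi : 0 = i <;> by_cases hj : 0 = j <;> simp [hi, hj]
  · intro k _ hk
    rw [Matrix.single_apply, if_neg (fun h => hk h.2.symm), zero_mul]
  · intro h; exact absurd (Finset.mem_univ _) h
  · intro k _ hk
    rw [Matrix.single_apply (i := (0 : Fin (n + 1))) (j := (0 : Fin (n + 1))) (i' := k), if_neg (fun h => hk h.1.symm), mul_zero]
  · intro h; exact absurd (Finset.mem_univ _) h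

/-- **generation** -/
theorem gen {n : ℕ} (S : Subring (Matrix (Fin 2 × Fin (n + 1)) (Fin 2 × Fin (n + 1)) K)) (γ : K)
    (hS : ∀ i, hh γ i ∈ S) : ∀ x y, ∀ a ∈ Subring.closure {γ}, single x y a ∈ S := by
  have h0 : single 0 0 1 ⊗ₖ 1 ∈ S := by rw [← hh01 (n := n) γ]; exact S.mul_mem (hS 0) (hS 1)
  let S' : Subring (Matrix (Fin (n + 1)) (Fin (n + 1)) K) :=
    { carrier := {X | single (0 : Fin 2) (0 : Fin 2) (1 : K) ⊗ₖ X ∈ S}
      mul_mem' := by
        intro X Y hX hY
        have := S.mul_mem hX hY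
        rw [← mul_kronecker_mul, Matrix.single_mul_single_same, mul_one] at this
        exact this
      one_mem' := h0
      add_mem' := by
        intro X Y hX hY
        have := S.add_mem hX hY
        rw [← kronecker_add] at this
        exact this
      zero_mem' := by
        show _ ⊗ₖ _ ∈ S
        rw [kronecker_zero]; exact S.zero_mem
      neg_mem' := by
        intro X hX
        have := S.neg_mem hX
        have h2 : -(single (0 : Fin 2) (0 : Fin 2) (1 : K) ⊗ₖ X) = single (0 : Fin 2) (0 : Fin 2) (1 : K) ⊗ₖ (-X) := by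
          ext ⟨i, k⟩ ⟨j, l⟩
          simp only [Matrix.kronecker_apply, Matrix.neg_apply, mul_neg]
        rw [h2] at this
        exact this }
  have hmem : ∀ X, X ∈ S' ↔ single (0 : Fin 2) (0 : Fin 2) (1 : K) ⊗ₖ X ∈ S := fun X => Iff.rfl
  have hq : single 0 0 1 ∈ S' := by
    rw [hmem, ← hh_q (n := n) γ]
    exact S.mul_mem (S.mul_mem (S.mul_mem (hS 0) (hS 1)) (hS 2)) (S.mul_mem (hS 0) (hS 1))
  have ht : pth K n + single 0 0 γ ∈ S' := by
    rw [hmem, ← hh31 (n := n) γ]
    exact S.mul_mem (hS 3) (hS 1)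
  have hγ : single 0 0 γ ∈ S' := by
    have := S'.mul_mem (S'.mul_mem hq ht) hq
    rw [single_mul_mul_single, Matrix.add_apply, pth_zero, zero_add, Matrix.single_apply_same] at this
    exact this
  have hp : pth K n ∈ S' := by
    have := S'.sub_mem ht hγ
    rwa [add_sub_cancel_right] at this
  have hA : ∀ a ∈ Subring.closure {γ}, single 0 0 a ∈ S' := by
    intro a ha
    induction ha using Subring.closure_induction with
    | mem x hx => rw [Set.mem_singleton_iff.1 hx]; exact hγ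
    | zero => rw [Matrix.single_zero]; exact S'.zero_mem
    | one => exact hq
    | add x y _ _ hx hy => rw [Matrix.single_add]; exact S'.add_mem hx hy
    | neg x _ hx =>
      have h2 : single 0 0 (-x) = -(single (0 : Fin (n + 1)) (0 : Fin (n + 1)) x) := by
        ext i j
        simp only [Matrix.neg_apply, Matrix.single_apply]
        by_cases h : 0 = i ∧ 0 = j
        · rw [if_pos h, if_pos h]
        · rw [if_neg h, if_neg h, neg_zero]
      rw [h2]; exact S'.neg_mem hx
    | mul x y _ _ hx hy =>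
      have := S'.mul_mem hx hy
      rw [Matrix.single_mul_single_same] at this
      exact this
  have hone : (1 : K) ∈ Subring.closure {γ} := Subring.one_mem _
  have hall := path_gen (Subring.closure {γ}) S' (pth K n) (by
      intro i j hij
      simp only [pth, Matrix.of_apply] at hij
      by_contra hcon
      exact hij (if_neg hcon))
    (by
      intro i j hij
      have h1 : pth K n i j = 1 := by
        simp only [pth, Matrix.of_apply]
        exact if_pos hij
      rw [h1, inv_one]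
      exact ⟨one_ne_zero, hone, hone⟩) hA hp
  have h00 : ∀ i j, ∀ a ∈ Subring.closure {γ}, single (0 : Fin 2) (0 : Fin 2) (1 : K) ⊗ₖ single i j a ∈ S :=
    fun i j a ha => hall i j a ha
  rintro ⟨x, i⟩ ⟨y, j⟩ a ha
  have hx : ∀ x y : Fin 2, single x y (1 : K) ⊗ₖ single i j a ∈ S := by
    intro x y
    fin_cases x <;> fin_cases y
    · exact h00 i j a ha
    · have := S.mul_mem (h00 i j a ha) (hS 0)
      have h2 : (single 0 0 1 ⊗ₖ single i j a) * hh γ 0 = single 0 1 1 ⊗ₖ single i j a := by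
        show _ * (single 0 1 1 ⊗ₖ 1) = _
        rw [← mul_kronecker_mul, Matrix.single_mul_single_same, Matrix.mul_one, mul_one]
      rw [h2] at this
      exact this
    · have := S.mul_mem (hS 1) (h00 i j a ha)
      have h2 : hh γ 1 * (single 0 0 1 ⊗ₖ single i j a) = single 1 0 1 ⊗ₖ single i j a := by
        show (single 1 0 1 ⊗ₖ 1) * _ = _
        rw [← mul_kronecker_mul, Matrix.single_mul_single_same, Matrix.one_mul, mul_one]
      rw [h2] at this
      exact this
    · have := S.mul_mem (S.mul_mem (hS 1) (h00 i j a ha)) (hS 0)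
      have h2 : hh γ 1 * (single 0 0 1 ⊗ₖ single i j a) * hh γ 0 = single 1 1 1 ⊗ₖ single i j a := by
        show (single 1 0 1 ⊗ₖ 1) * _ * (single 0 1 1 ⊗ₖ 1) = _
        rw [← mul_kronecker_mul, ← mul_kronecker_mul, Matrix.single_mul_single_same, Matrix.single_mul_single_same,
          Matrix.one_mul, Matrix.mul_one, mul_one, mul_one]
      rw [h2] at this
      exact this
  have := hx x y
  rw [single_kronecker_single, one_mul] at this
  exact this

end gen

end Cfsg.Agent.H976.FC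
end

-- part: H976/FC/Core2
section
/-!
# S5764, C4: rigidity in matrix form (helper976)
-/

set_option autoImplicit false

open Matrix
open scoped Kronecker

namespace Cfsg.Agent.H976.FC

section core2

variable {K : Type*} [Field K] {I Y : Type*} [Fintype I] [DecidableEq I] [Fintype Y] [DecidableEq Y]

omit [DecidableEq I] in
theorem kron_mul_left (P Q : Matrix I I K) :
    (P * Q) ⊗ₖ (1 : Matrix Y Y K) = (P ⊗ₖ (1 : Matrix Y Y K)) * (Q ⊗ₖ (1 : Matrix Y Y K)) := by
  rw [← mul_kronecker_mul, Matrix.one_mul]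

omit [DecidableEq Y] in
theorem kron_mul_right (P Q : Matrix Y Y K) :
    (1 : Matrix I I K) ⊗ₖ (P * Q) = ((1 : Matrix I I K) ⊗ₖ P) * ((1 : Matrix I I K) ⊗ₖ Q) := by
  rw [← mul_kronecker_mul, Matrix.one_mul]

theorem kron_split (P : Matrix I I K) (Q : Matrix Y Y K) :
    P ⊗ₖ Q = (P ⊗ₖ (1 : Matrix Y Y K)) * ((1 : Matrix I I K) ⊗ₖ Q) := by
  rw [← mul_kronecker_mul, Matrix.one_mul, Matrix.mul_one]

/-- the induced automorphism of the first factor -/
theorem exists_f1 [Finite K] [Nonempty Y] (f : Matrix (I × Y) (I × Y) K ≃+* Matrix (I × Y) (I × Y) K)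
    (hf : ∀ B : Matrix I I K, ∃ B' : Matrix I I K, f (B ⊗ₖ (1 : Matrix Y Y K)) = B' ⊗ₖ (1 : Matrix Y Y K)) :
    ∃ f1 : Matrix I I K ≃+* Matrix I I K, ∀ B, f (B ⊗ₖ (1 : Matrix Y Y K)) = f1 B ⊗ₖ (1 : Matrix Y Y K) := by
  have hY0 : (1 : Matrix Y Y K) ≠ 0 := one_ne_zero
  choose F hF using hf
  let F1 : Matrix I I K →+* Matrix I I K :=
    { toFun := F
      map_one' := kron_left hY0 (by rw [← hF, one_kronecker_one, map_one])
      map_zero' := kron_left hY0 (by rw [← hF, zero_kronecker, map_zero])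
      map_add' := fun P Q => kron_left hY0 (by rw [← hF, add_kronecker, map_add, hF, hF, add_kronecker])
      map_mul' := fun P Q => kron_left hY0 (by rw [← hF, kron_mul_left, map_mul, hF, hF, ← kron_mul_left]) }
  have hinj : Function.Injective F1 := by
    intro P Q hPQ
    have h1 : f (P ⊗ₖ (1 : Matrix Y Y K)) = f (Q ⊗ₖ (1 : Matrix Y Y K)) := by
      rw [hF, hF]
      have : F P = F Q := hPQ
      rw [this]
    exact kron_left hY0 (f.injective h1)
  exact ⟨RingEquiv.ofBijective F1 ⟨hinj, Finite.surjective_of_injective hinj⟩, hF⟩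

/-- the induced automorphism of the second factor -/
theorem exists_f2 [Finite K] [Nonempty I] (f : Matrix (I × Y) (I × Y) K ≃+* Matrix (I × Y) (I × Y) K)
    (f1 : Matrix I I K ≃+* Matrix I I K) (hf1 : ∀ B, f (B ⊗ₖ (1 : Matrix Y Y K)) = f1 B ⊗ₖ (1 : Matrix Y Y K)) :
    ∃ f2 : Matrix Y Y K ≃+* Matrix Y Y K, ∀ C, f ((1 : Matrix I I K) ⊗ₖ C) = (1 : Matrix I I K) ⊗ₖ f2 C := by
  have hI0 : (1 : Matrix I I K) ≠ 0 := one_ne_zero
  have hf : ∀ C : Matrix Y Y K, ∃ C' : Matrix Y Y K, f ((1 : Matrix I I K) ⊗ₖ C) = (1 : Matrix I I K) ⊗ₖ C' := by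
    intro C
    apply mem_second
    intro B
    obtain ⟨B0, rfl⟩ := f1.surjective B
    rw [← hf1, ← map_mul, ← map_mul, ← mul_kronecker_mul, ← mul_kronecker_mul, Matrix.one_mul, Matrix.mul_one,
      Matrix.one_mul, Matrix.mul_one]
  choose F hF using hf
  let F1 : Matrix Y Y K →+* Matrix Y Y K :=
    { toFun := F
      map_one' := kron_right hI0 (by rw [← hF, one_kronecker_one, map_one])
      map_zero' := kron_right hI0 (by rw [← hF, kronecker_zero, map_zero])
      map_add' := fun P Q => kron_right hI0 (by rw [← hF, kronecker_add, map_add, hF, hF, kronecker_add])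
      map_mul' := fun P Q => kron_right hI0 (by rw [← hF, kron_mul_right, map_mul, hF, hF, ← kron_mul_right]) }
  have hinj : Function.Injective F1 := by
    intro P Q hPQ
    have h1 : f ((1 : Matrix I I K) ⊗ₖ P) = f ((1 : Matrix I I K) ⊗ₖ Q) := by
      rw [hF, hF]
      have : F P = F Q := hPQ
      rw [this]
    exact kron_right hI0 (f.injective h1)
  exact ⟨RingEquiv.ofBijective F1 ⟨hinj, Finite.surjective_of_injective hinj⟩, hF⟩

/-- if `g (hᵢ) = cᵢ hᵢ` then all `cᵢ = 1` -/
theorem coeff_one {n : ℕ} (g : Matrix (Fin 2 × Fin (n + 1)) (Fin 2 × Fin (n + 1)) K →+*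
      Matrix (Fin 2 × Fin (n + 1)) (Fin 2 × Fin (n + 1)) K)
    (c : Fin 4 → K) (hc0 : ∀ i, c i ≠ 0) (hc : ∀ i, g (hh 1 i) = c i • hh 1 i) : ∀ i, c i = 1 := by
  set q : Matrix (Fin 2 × Fin (n + 1)) (Fin 2 × Fin (n + 1)) K := single 0 0 1 ⊗ₖ single 0 0 1 with hq
  have hq0 : q ≠ 0 := by
    intro h
    have := congrFun (congrFun h (0, 0)) (0, 0)
    rw [hq, Matrix.kronecker_apply, Matrix.single_apply_same, Matrix.single_apply_same] at this
    simp at this
  have hqq : q * q = q := by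
    rw [hq, ← mul_kronecker_mul, Matrix.single_mul_single_same, Matrix.single_mul_single_same, mul_one]
  have h1 := hh_q (n := n) (1 : K)
  have h2 := hh_q' (n := n) (1 : K)
  rw [← hq] at h1 h2
  have g1 : g q = (c 0 * c 1 * c 2 * (c 0 * c 1)) • q := by
    conv_lhs => rw [← h1]
    simp only [map_mul, hc, smul_mul_assoc, mul_smul_comm, smul_smul]
    rw [h1]
    congr 1; ring
  have g2 : g q = (c 0 * c 1 * c 2 * c 1) • q := by
    have h3 : q = -(hh 1 0 * hh 1 1 * hh 1 2 * hh 1 1) := by rw [h2, neg_neg]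
    conv_lhs => rw [h3]
    simp only [map_neg, map_mul, hc, smul_mul_assoc, mul_smul_comm, smul_smul]
    rw [h2, smul_neg, neg_neg]
    congr 1; ring
  have hinj : ∀ a b : K, a • q = b • q → a = b := by
    intro a b hab
    by_contra hne
    have : (a - b) • q = 0 := by rw [sub_smul, hab, sub_self]
    rcases smul_eq_zero.1 this with h | h
    · exact hne (sub_eq_zero.1 h)
    · exact hq0 h
  have e1 := hinj _ _ (g1.symm.trans g2)
  have hc0' : c 0 = 1 := by
    have h3 : c 0 * c 1 * c 2 * c 1 * c 0 = c 0 * c 1 * c 2 * c 1 * 1 := by linear_combination e1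
    exact mul_left_cancel₀ (mul_ne_zero (mul_ne_zero (mul_ne_zero (hc0 0) (hc0 1)) (hc0 2)) (hc0 1)) h3
  -- idempotency
  have e2 : c 0 * c 1 * c 2 * c 1 = 1 := by
    have h3 : g q * g q = g q := by rw [← map_mul, hqq]
    rw [g2, smul_mul_assoc, mul_smul_comm, hqq, smul_smul] at h3
    have h4 := hinj _ _ h3
    have h5 : c 0 * c 1 * c 2 * c 1 ≠ 0 := mul_ne_zero (mul_ne_zero (mul_ne_zero (hc0 0) (hc0 1)) (hc0 2)) (hc0 1)
    exact mul_left_cancel₀ h5 (h4.trans (mul_one _).symm)
  have gq : g q = q := by rw [g2, e2, one_smul]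
  -- `h₁ h₂` is idempotent
  have hc1 : c 1 = 1 := by
    have h3 := hh01 (n := n) (1 : K)
    have h4 : (hh (n := n) (1 : K) 0 * hh 1 1) * (hh 1 0 * hh 1 1) = hh 1 0 * hh 1 1 := by
      rw [h3, ← mul_kronecker_mul, Matrix.single_mul_single_same, mul_one, Matrix.one_mul]
    have h5 : hh (n := n) (1 : K) 0 * hh 1 1 ≠ 0 := by
      rw [h3]
      intro h
      have := congrFun (congrFun h (0, 0)) (0, 0)
      rw [Matrix.kronecker_apply, Matrix.single_apply_same, Matrix.one_apply_eq] at this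
      simp at this
    have h6 : g (hh 1 0 * hh 1 1) = c 1 • (hh 1 0 * hh 1 1) := by
      rw [map_mul, hc, hc, smul_mul_assoc, mul_smul_comm, smul_smul, hc0', one_mul]
    have h7 : g (hh 1 0 * hh 1 1) * g (hh 1 0 * hh 1 1) = g (hh 1 0 * hh 1 1) := by rw [← map_mul, h4]
    rw [h6, smul_mul_assoc, mul_smul_comm, h4, smul_smul] at h7
    have h8 : (c 1 * c 1 - c 1) • (hh (n := n) (1 : K) 0 * hh 1 1) = 0 := by rw [sub_smul, h7, sub_self]
    rcases smul_eq_zero.1 h8 with h9 | h9
    · have : c 1 * c 1 = c 1 * 1 := by rw [mul_one]; exact sub_eq_zero.1 h9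
      exact mul_left_cancel₀ (hc0 1) this
    · exact absurd h9 h5
  have hc2 : c 2 = 1 := by
    rw [hc0', hc1] at e2
    simpa using e2
  have hc3 : c 3 = 1 := by
    have h3 : q * (hh 1 3 * hh 1 1) * q = q := by
      rw [hh31, hq, ← mul_kronecker_mul, ← mul_kronecker_mul, Matrix.single_mul_single_same,
        Matrix.single_mul_single_same, single_mul_mul_single, Matrix.add_apply, pth_zero, zero_add,
        Matrix.single_apply_same, mul_one, mul_one]
    have h4 : g (q * (hh 1 3 * hh 1 1) * q) = c 3 • q := by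
      rw [map_mul, map_mul, map_mul, hc, hc, gq, hc1, one_smul, smul_mul_assoc, mul_smul_comm, smul_mul_assoc, h3]
    rw [h3, gq] at h4
    exact (hinj _ _ (by rw [one_smul]; exact h4)).symm
  intro i
  fin_cases i
  · exact hc0'
  · exact hc1
  · exact hc2
  · exact hc3

omit [Fintype I] [DecidableEq I] in
/-- decomposition into blocks -/
theorem sum_blocks (X : Matrix (I × Y) (I × Y) K) :
    X = ∑ k : Y, ∑ l : Y, (Matrix.of fun i j => X (i, k) (j, l)) ⊗ₖ single k l 1 := by
  ext ⟨i, a⟩ ⟨j, b⟩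
  simp only [Matrix.sum_apply, Matrix.kronecker_apply, Matrix.of_apply, Matrix.single_apply]
  rw [Finset.sum_eq_single a, Finset.sum_eq_single b]
  · simp
  · intro l _ hl; rw [if_neg (fun h => hl h.2), mul_zero]
  · intro h; exact absurd (Finset.mem_univ _) h
  · intro k _ hk
    apply Finset.sum_eq_zero
    intro l _
    rw [if_neg (fun h => hk h.1), mul_zero]
  · intro h; exact absurd (Finset.mem_univ _) h

/-- **rigidity** -/
theorem core_id [Finite K] [Nonempty I] {n : ℕ}
    (f : Matrix (I × (Fin 2 × Fin (n + 1))) (I × (Fin 2 × Fin (n + 1))) K ≃+*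
      Matrix (I × (Fin 2 × Fin (n + 1))) (I × (Fin 2 × Fin (n + 1))) K)
    (hf : ∀ B : Matrix I I K, ∃ B' : Matrix I I K, f (B ⊗ₖ 1) = B' ⊗ₖ 1)
    (Bs : Fin 4 → Matrix I I K) (hBs : ∀ i, ∀ s : K, Bs i ≠ s • (1 : Matrix I I K))
    (hx : ∀ i, ∀ X : Matrix I I K, ∃ X' : Matrix I I K,
      (1 + Bs i ⊗ₖ hh 1 i) * f ((1 - Bs i ⊗ₖ hh 1 i) * (X ⊗ₖ 1) * (1 + Bs i ⊗ₖ hh 1 i)) * (1 - Bs i ⊗ₖ hh 1 i) = X' ⊗ₖ 1)
    (rigid : ∀ g : Matrix I I K ≃+* Matrix I I K, (∀ i, ∃ s : K, g (Bs i) = Bs i - s • (1 : Matrix I I K)) →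
      ∀ X, g X = X) : ∀ X, f X = X := by
  obtain ⟨f1, hf1⟩ := exists_f1 f hf
  obtain ⟨f2, hf2⟩ := exists_f2 f f1 hf1
  have hh0 : ∀ i, hh (n := n) (1 : K) i ≠ 0 := by
    have h1 := hh_q (n := n) (1 : K)
    have hq0 : (single 0 0 1 ⊗ₖ single 0 0 1 : Matrix (Fin 2 × Fin (n + 1)) (Fin 2 × Fin (n + 1)) K) ≠ 0 := by
      intro h
      have := congrFun (congrFun h (0, 0)) (0, 0)
      rw [Matrix.kronecker_apply, Matrix.single_apply_same, Matrix.single_apply_same] at this
      simp at this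
    intro i h
    fin_cases i
    · have h' : hh (n := n) (1 : K) 0 = 0 := h
      rw [h', zero_mul, zero_mul, zero_mul] at h1
      exact hq0 h1.symm
    · have h' : hh (n := n) (1 : K) 1 = 0 := h
      rw [h', mul_zero, zero_mul, zero_mul] at h1
      exact hq0 h1.symm
    · have h' : hh (n := n) (1 : K) 2 = 0 := h
      rw [h', mul_zero, zero_mul] at h1
      exact hq0 h1.symm
    · have h' : hh (n := n) (1 : K) 3 = 0 := h
      have h3 := hh31 (n := n) (1 : K)
      rw [h', zero_mul] at h3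
      have := congrFun (congrFun h3 (0, 0)) (0, 0)
      rw [Matrix.kronecker_apply, Matrix.single_apply_same, Matrix.add_apply, pth_zero, Matrix.single_apply_same] at this
      simp at this
  have hcl := fun i => claim f f1 f2 hf1 hf2 f1.surjective (Bs i) (hh 1 i) (hBs i) (hh_sq 1 i) (hh0 i) (hx i)
  choose c s hc0 hc hB using hcl
  have hc1 := coeff_one f2.toRingHom c hc0 hc
  have hfix2 : ∀ k l, f2 (single k l 1) = single k l 1 := by
    intro k l
    have := gen (RingHom.eqLocus f2.toRingHom (RingHom.id _)) (1 : K) (fun i => by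
      show f2 (hh 1 i) = hh 1 i
      rw [hc i, hc1 i, one_smul]) k l 1 (Subring.one_mem _)
    exact this
  have hfix1 := rigid f1 (fun i => ⟨s i, by
    have h1 := hB i
    rw [hc1 i, one_smul] at h1
    conv_rhs => rw [h1]
    rw [add_sub_cancel_right]⟩)
  intro X
  rw [sum_blocks X, map_sum]
  apply Finset.sum_congr rfl
  intro k _
  rw [map_sum]
  apply Finset.sum_congr rfl
  intro l _
  rw [kron_split, map_mul, hf1, hf2, hfix1, hfix2]

end core2

end Cfsg.Agent.H976.FC
end

-- part: H976/FC/Rigid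
section
/-!
# S5764, C4: the matrices `B` (helper976)
-/

set_option autoImplicit false

open Matrix
open scoped Kronecker

namespace Cfsg.Agent.H976.FC

section rigid

variable {K : Type*} [Field K]

theorem exists_gen [Finite K] : ∃ γ : K, Subring.closure {γ} = ⊤ := by
  obtain ⟨g, hg⟩ := IsCyclic.exists_generator (α := Kˣ)
  refine ⟨(g : K), ?_⟩
  rw [eq_top_iff]
  intro x _
  by_cases hx : x = 0
  · rw [hx]; exact Subring.zero_mem _
  · obtain ⟨n, hn⟩ := (isOfFinOrder_of_finite g).mem_powers_iff_mem_zpowers.2 (hg (Units.mk0 x hx))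
    have h1 : (g : K) ^ n = x := by
      have h2 := congrArg Units.val hn
      simpa using h2
    rw [← h1]
    have hmem : (g : K) ∈ Subring.closure {(g : K)} := Subring.subset_closure (Set.mem_singleton _)
    exact pow_mem hmem n

theorem eq_self_of_single {J : Type*} [Fintype J] [DecidableEq J] (g : Matrix J J K →+* Matrix J J K)
    (h : ∀ (x y : J) (a : K), g (single x y a) = single x y a) (X : Matrix J J K) : g X = X := by
  have hX := Matrix.matrix_eq_sum_single X
  have h1 : g (∑ i, ∑ j, single i j (X i j)) = ∑ i, ∑ j, single i j (X i j) := by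
    rw [map_sum]
    apply Finset.sum_congr rfl
    intro i _
    rw [map_sum]
    apply Finset.sum_congr rfl
    intro j _
    exact h i j _
  rw [← hX] at h1
  exact h1

/-- the standard symplectic matrix -/
def om (K : Type*) [Field K] (n : ℕ) : Matrix (Fin 2 × Fin (n + 1)) (Fin 2 × Fin (n + 1)) K :=
  !![0, 1; -1, 0] ⊗ₖ 1

theorem hh_skew {n : ℕ} (γ : K) (i : Fin 4) : (hh (n := n) γ i)ᵀ * om K n = -(om K n * hh γ i) := by
  have key : ∀ (A : Matrix (Fin 2) (Fin 2) K) (S : Matrix (Fin (n + 1)) (Fin (n + 1)) K), Sᵀ = S →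
      Aᵀ * !![0, 1; -1, 0] = -(!![0, 1; -1, 0] * A) → (A ⊗ₖ S)ᵀ * om K n = -(om K n * (A ⊗ₖ S)) := by
    intro A S hS hA
    rw [← kroneckerMap_transpose, om, hS, ← mul_kronecker_mul, ← mul_kronecker_mul, Matrix.mul_one, Matrix.one_mul, hA]
    ext ⟨i, k⟩ ⟨j, l⟩
    simp only [Matrix.kronecker_apply, Matrix.neg_apply, neg_mul]
  have h00 : (single (0 : Fin (n + 1)) (0 : Fin (n + 1)) (1 : K))ᵀ = single 0 0 1 := Matrix.transpose_single _ _ _
  have h00γ : (single (0 : Fin (n + 1)) (0 : Fin (n + 1)) γ)ᵀ = single 0 0 γ := Matrix.transpose_single _ _ _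
  have s01 : single (0 : Fin 2) (1 : Fin 2) (1 : K) = !![0, 1; 0, 0] := by
    ext i j; fin_cases i <;> fin_cases j <;> simp
  have s10 : single (1 : Fin 2) (0 : Fin 2) (1 : K) = !![0, 0; 1, 0] := by
    ext i j; fin_cases i <;> fin_cases j <;> simp
  have e01 : (single (0 : Fin 2) (1 : Fin 2) (1 : K))ᵀ * !![0, 1; -1, 0] = -(!![0, 1; -1, 0] * single 0 1 1) := by
    rw [s01]
    ext i j; fin_cases i <;> fin_cases j <;> simp [Matrix.mul_apply, Fin.sum_univ_two]
  have e10 : (single (1 : Fin 2) (0 : Fin 2) (1 : K))ᵀ * !![0, 1; -1, 0] = -(!![0, 1; -1, 0] * single 1 0 1) := by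
    rw [s10]
    ext i j; fin_cases i <;> fin_cases j <;> simp [Matrix.mul_apply, Fin.sum_univ_two]
  have ea : (!![1, -1; 1, -1] : Matrix (Fin 2) (Fin 2) K)ᵀ * !![0, 1; -1, 0] =
      -(!![0, 1; -1, 0] * !![1, -1; 1, -1]) := by
    ext i j; fin_cases i <;> fin_cases j <;> simp [Matrix.mul_apply, Fin.sum_univ_two]
  fin_cases i
  · exact key _ _ Matrix.transpose_one e01
  · exact key _ _ Matrix.transpose_one e10
  · exact key _ _ h00 ea
  · exact key _ _ (by rw [Matrix.transpose_add, pth_transpose, h00γ]) e01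

/-! ### characteristic two, alternating form -/

theorem hh_nonscalar {n : ℕ} (γ : K) (i : Fin 4) (h0 : hh (n := n) γ i ≠ 0) (s : K) :
    hh (n := n) γ i ≠ s • (1 : Matrix (Fin 2 × Fin (n + 1)) (Fin 2 × Fin (n + 1)) K) := by
  intro h
  have h1 := hh_sq (n := n) γ i
  rw [h, smul_mul_smul_comm, Matrix.one_mul] at h1
  have h2 := congrFun (congrFun h1 (0, 0)) (0, 0)
  rw [Matrix.smul_apply, Matrix.one_apply_eq] at h2
  have h3 : s = 0 := by simpa using h2
  exact h0 (by rw [h, h3, zero_smul])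

theorem hh_ne_zero {n : ℕ} {γ : K} (hγ : γ ≠ 0) (i : Fin 4) : hh (n := n) γ i ≠ 0 := by
  have h1 := hh_q (n := n) γ
  have hq0 : (single 0 0 1 ⊗ₖ single 0 0 1 : Matrix (Fin 2 × Fin (n + 1)) (Fin 2 × Fin (n + 1)) K) ≠ 0 := by
    intro h
    have := congrFun (congrFun h (0, 0)) (0, 0)
    rw [Matrix.kronecker_apply, Matrix.single_apply_same, Matrix.single_apply_same] at this
    simp at this
  intro h
  fin_cases i
  · have h' : hh (n := n) γ 0 = 0 := h
    rw [h', zero_mul, zero_mul, zero_mul] at h1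
    exact hq0 h1.symm
  · have h' : hh (n := n) γ 1 = 0 := h
    rw [h', mul_zero, zero_mul, zero_mul] at h1
    exact hq0 h1.symm
  · have h' : hh (n := n) γ 2 = 0 := h
    rw [h', mul_zero, zero_mul] at h1
    exact hq0 h1.symm
  · have h' : hh (n := n) γ 3 = 0 := h
    have h3 := hh31 (n := n) γ
    rw [h', zero_mul] at h3
    have := congrFun (congrFun h3 (0, 0)) (0, 0)
    rw [Matrix.kronecker_apply, Matrix.single_apply_same, Matrix.add_apply, pth_zero, Matrix.single_apply_same] at this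
    simp at this
    exact hγ this.symm

theorem rigidB {n : ℕ} (h2 : (2 : K) = 0) {γ : K} (hγ : Subring.closure {γ} = ⊤)
    (g : Matrix (Fin 2 × Fin (n + 1)) (Fin 2 × Fin (n + 1)) K ≃+* Matrix (Fin 2 × Fin (n + 1)) (Fin 2 × Fin (n + 1)) K)
    (hg : ∀ i, ∃ s : K, g (hh γ i) = hh γ i - s • (1 : Matrix (Fin 2 × Fin (n + 1)) (Fin 2 × Fin (n + 1)) K)) :
    ∀ X, g X = X := by
  have hfix : ∀ i, g (hh γ i) = hh γ i := by
    intro i
    obtain ⟨s, hs⟩ := hg i
    have h1 : g (hh γ i) * g (hh γ i) = 0 := by rw [← map_mul, hh_sq, map_zero]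
    rw [hs] at h1
    have h3 : (hh (n := n) γ i - s • 1) * (hh γ i - s • 1) =
        hh γ i * hh γ i - (2 : K) • (s • hh γ i) + (s * s) • (1 : Matrix (Fin 2 × Fin (n + 1)) (Fin 2 × Fin (n + 1)) K) := by
      rw [two_smul, sub_mul, mul_sub, mul_sub, smul_mul_assoc, smul_mul_smul_comm, mul_smul_comm]
      simp only [mul_one, one_mul]
      abel
    rw [h3, hh_sq, h2, zero_smul, sub_zero, zero_add] at h1
    have h4 := congrFun (congrFun h1 (0, 0)) (0, 0)
    rw [Matrix.smul_apply, Matrix.one_apply_eq] at h4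
    have h5 : s = 0 := by simpa using h4
    rw [hs, h5, zero_smul, sub_zero]
  apply eq_self_of_single g.toRingHom
  intro x y a
  exact gen (RingHom.eqLocus g.toRingHom (RingHom.id _)) γ hfix x y a (by rw [hγ]; exact Subring.mem_top a)

/-! ### odd characteristic, symmetric form -/

/-- `D⁻¹ J`, `J` the path matrix -/
def tt {n : ℕ} (d : Fin (n + 1) → K) : Matrix (Fin (n + 1)) (Fin (n + 1)) K := Matrix.of fun i j => (d i)⁻¹ * pth K n i j

/-- the four matrices `Bᵢ` -/
def bb {n : ℕ} (d : Fin (n + 1) → K) (γ : K) : Fin 4 → Matrix (Fin (n + 1)) (Fin (n + 1)) K :=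
  ![single 0 0 1, tt d, single 0 0 γ, single 0 0 1]

theorem bb_self {n : ℕ} {d : Fin (n + 1) → K} (hd : ∀ i, d i ≠ 0) (γ : K) (i : Fin 4) :
    (bb d γ i)ᵀ * diagonal d = diagonal d * bb d γ i := by
  have e0 : ∀ c : K, (single (0 : Fin (n + 1)) (0 : Fin (n + 1)) c)ᵀ * diagonal d = diagonal d * single 0 0 c := by
    intro c
    ext i j
    rw [Matrix.mul_diagonal, Matrix.diagonal_mul, Matrix.transpose_apply, Matrix.single_apply, Matrix.single_apply]
    by_cases hi : 0 = i
    · by_cases hj : 0 = j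
      · subst hi; subst hj; simp [mul_comm]
      · simp [hj]
    · simp [hi]
  fin_cases i
  · exact e0 1
  · show (tt d)ᵀ * diagonal d = diagonal d * tt d
    ext i j
    rw [Matrix.mul_diagonal, Matrix.diagonal_mul, Matrix.transpose_apply, tt, Matrix.of_apply, Matrix.of_apply]
    have h1 := congrFun (congrFun (pth_transpose (K := K) n) i) j
    rw [Matrix.transpose_apply] at h1
    rw [h1]
    field_simp [hd i, hd j]
  · exact e0 γ
  · exact e0 1

theorem bb_nonscalar {n : ℕ} (hn : 1 ≤ n) {d : Fin (n + 1) → K} (hd : ∀ i, d i ≠ 0) {γ : K} (hγ : γ ≠ 0) (i : Fin 4)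
    (s : K) : bb d γ i ≠ s • (1 : Matrix (Fin (n + 1)) (Fin (n + 1)) K) := by
  have hlt : 1 < n + 1 := by omega
  have e0 : ∀ c : K, c ≠ 0 → single (0 : Fin (n + 1)) (0 : Fin (n + 1)) c ≠ s • (1 : Matrix (Fin (n + 1)) (Fin (n + 1)) K) := by
    intro c hc h
    have h1 := congrFun (congrFun h 0) 0
    have h2 := congrFun (congrFun h ⟨1, hlt⟩) ⟨1, hlt⟩
    rw [Matrix.single_apply_same, Matrix.smul_apply, Matrix.one_apply_eq] at h1
    rw [Matrix.single_apply, if_neg (fun h3 => by have := congrArg Fin.val h3.1; simp at this), Matrix.smul_apply,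
      Matrix.one_apply_eq] at h2
    exact hc (h1.trans h2.symm)
  fin_cases i
  · exact e0 1 one_ne_zero
  · intro h
    have h' : tt d = s • (1 : Matrix (Fin (n + 1)) (Fin (n + 1)) K) := h
    have h1 := congrFun (congrFun h' 0) ⟨1, hlt⟩
    rw [Matrix.smul_apply, Matrix.one_apply_ne (fun h3 => by have := congrArg Fin.val h3; simp at this), tt,
      Matrix.of_apply, pth, Matrix.of_apply, if_pos (by simp)] at h1
    simp [hd 0] at h1
  · exact e0 γ hγ
  · exact e0 1 one_ne_zero

theorem rigidA {n : ℕ} (hn : 1 ≤ n) (h2 : (2 : K) ≠ 0) {d : Fin (n + 1) → K} (hd : ∀ i, d i ≠ 0) {γ : K}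
    (hγ : Subring.closure {γ} = ⊤)
    (g : Matrix (Fin (n + 1)) (Fin (n + 1)) K ≃+* Matrix (Fin (n + 1)) (Fin (n + 1)) K)
    (hg : ∀ i, ∃ s : K, g (bb d γ i) = bb d γ i - s • (1 : Matrix (Fin (n + 1)) (Fin (n + 1)) K)) : ∀ X, g X = X := by
  have hlt : 1 < n + 1 := by omega
  set o : Fin (n + 1) := ⟨1, hlt⟩ with ho
  have ho0 : (0 : Fin (n + 1)) ≠ o := by
    intro h3; have := congrArg Fin.val h3; simp [ho] at this
  set E : Matrix (Fin (n + 1)) (Fin (n + 1)) K := single 0 0 1 with hE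
  have hEE : E * E = E := by rw [hE, Matrix.single_mul_single_same, mul_one]
  -- `g E = E`
  have hgE : g E = E := by
    obtain ⟨s, hs⟩ := hg 0
    have hs' : g E = E - s • 1 := hs
    have h3 : g E * g E = g E := by rw [← map_mul, hEE]
    rw [hs'] at h3
    have h4 : (E - s • 1) * (E - s • 1) = E - (2 : K) • (s • E) + (s * s) • (1 : Matrix (Fin (n + 1)) (Fin (n + 1)) K) := by
      rw [two_smul, sub_mul, mul_sub, mul_sub, smul_mul_assoc, smul_mul_smul_comm, mul_smul_comm]
      simp only [mul_one, one_mul, hEE]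
      abel
    rw [h4] at h3
    have h5 := congrFun (congrFun h3 0) 0
    have h6 := congrFun (congrFun h3 o) o
    simp only [Matrix.sub_apply, Matrix.add_apply, Matrix.smul_apply, Matrix.one_apply_eq, smul_eq_mul, hE,
      Matrix.single_apply_same, mul_one] at h5
    simp only [Matrix.sub_apply, Matrix.add_apply, Matrix.smul_apply, Matrix.one_apply_eq, smul_eq_mul, hE,
      Matrix.single_apply, mul_one] at h6
    rw [if_neg (fun h => ho0 h.1)] at h6
    have h7 : (2 : K) * s = 0 := by linear_combination -h5 + h6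
    have h8 : s = 0 := (mul_eq_zero.1 h7).resolve_left h2
    rw [hs', h8, zero_smul, sub_zero]
  -- `g T = T`
  have hgT : g (tt d) = tt d := by
    obtain ⟨s, hs⟩ := hg 1
    have hs' : g (tt d) = tt d - s • 1 := hs
    have h0 : E * tt d * E = 0 := by
      rw [hE, single_mul_mul_single, tt, Matrix.of_apply, pth_zero, mul_zero, Matrix.single_zero]
    have h1 : g E * g (tt d) * g E = 0 := by rw [← map_mul, ← map_mul, h0, map_zero]
    rw [hgE, hs', mul_sub, sub_mul, h0, zero_sub, mul_smul_comm, mul_one, smul_mul_assoc, hEE, neg_eq_zero] at h1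
    rcases smul_eq_zero.1 h1 with h3 | h3
    · rw [hs', h3, zero_smul, sub_zero]
    · exfalso
      have := congrFun (congrFun h3 0) 0
      rw [hE, Matrix.single_apply_same] at this
      exact one_ne_zero this
  -- `g (γ E) = γ E`
  have hgγ : g (single 0 0 γ) = single 0 0 γ := by
    obtain ⟨s, hs⟩ := hg 2
    have hs' : g (single 0 0 γ) = single 0 0 γ - s • 1 := hs
    have h0 : single 0 0 γ * E = single (0 : Fin (n + 1)) (0 : Fin (n + 1)) γ := by
      rw [hE, Matrix.single_mul_single_same, mul_one]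
    have h1 : g (single 0 0 γ) * g E = g (single 0 0 γ) := by rw [← map_mul, h0]
    rw [hgE, hs', sub_mul, h0, smul_mul_assoc, one_mul] at h1
    have h3 := congrFun (congrFun h1 o) o
    simp only [Matrix.sub_apply, Matrix.smul_apply, Matrix.one_apply_eq, smul_eq_mul, hE,
      Matrix.single_apply, mul_one] at h3
    rw [if_neg (fun h => ho0 h.1)] at h3
    have h4 : s = 0 := by
      rw [if_neg (fun h => ho0 h.1)] at h3
      linear_combination h3
    rw [hs', h4, zero_smul, sub_zero]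
  set S := RingHom.eqLocus g.toRingHom (RingHom.id _) with hS
  have hA : ∀ a ∈ Subring.closure {γ}, single (0 : Fin (n + 1)) (0 : Fin (n + 1)) a ∈ S := by
    intro a ha
    induction ha using Subring.closure_induction with
    | mem x hx => rw [Set.mem_singleton_iff.1 hx]; exact hgγ
    | zero => rw [Matrix.single_zero]; exact S.zero_mem
    | one => exact hgE
    | add x y _ _ hx hy => rw [Matrix.single_add]; exact S.add_mem hx hy
    | neg x _ hx =>
      have h2 : single 0 0 (-x) = -(single (0 : Fin (n + 1)) (0 : Fin (n + 1)) x) := by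
        ext i j
        simp only [Matrix.neg_apply, Matrix.single_apply]
        by_cases h : 0 = i ∧ 0 = j
        · rw [if_pos h, if_pos h]
        · rw [if_neg h, if_neg h, neg_zero]
      rw [h2]; exact S.neg_mem hx
    | mul x y _ _ hx hy =>
      have := S.mul_mem hx hy
      rw [Matrix.single_mul_single_same] at this
      exact this
  apply eq_self_of_single g.toRingHom
  intro x y a
  refine path_gen ⊤ S (tt d) ?_ ?_ (fun a _ => hA a (by rw [hγ]; exact Subring.mem_top a)) hgT x y a (Subring.mem_top a)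
  · intro i j hij
    by_contra hcon
    apply hij
    rw [tt, Matrix.of_apply, pth, Matrix.of_apply, if_neg hcon, mul_zero]
  · intro i j hij
    refine ⟨?_, Subring.mem_top _, Subring.mem_top _⟩
    rw [tt, Matrix.of_apply, pth, Matrix.of_apply, if_pos hij, mul_one]
    exact inv_ne_zero (hd i)

end rigid

end Cfsg.Agent.H976.FC
end
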